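import Groth.Agent.LeadQSub.SubSheaf
import Groth.Agent.H17.CohSub
import Groth.Agent.H17.Topology

/-!
# Extension of finite type quasi-coherent subsheaves by transfinite induction
-/

set_option autoImplicit false
set_option linter.style.haveILetI false
set_option linter.unusedSectionVars false

universe u v

open CategoryTheory CategoryTheory.Limits AlgebraicGeometry Opposite TopologicalSpace

namespace Groth.Agent.LeadQSub

variable {X : Scheme.{u}} {F : X.Modules}

section induction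

variable {L : Type v} [LinearOrder L] [WellFoundedLT L] (V : L → X.Opens) (U : X.Opens) (Γ₀ : Gens F)

/-- The family built before step `l`. -/
def gensBefore (l : L) (S : ∀ m, m < l → Set Γ(F, V m)) : Gens F :=
  Γ₀ ∪ {g | ∃ (m : L) (h : m < l), g ∈ ofSet (V m) (S m h)}

/-- The open where the family built before step `l` lives, inside `V l`. -/
def openBefore (l : L) : X.Opens := V l ⊓ (U ⊔ ⨆ m : Set.Iio l, V m.1)

/-- What step `l` must achieve. -/
def StepOK (l : L) (S : ∀ m, m < l → Set Γ(F, V m)) (T : Set Γ(F, V l)) : Prop :=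
  T.Finite ∧ (∀ s ∈ T, LocSpan (gensBefore V Γ₀ l S) (openBefore V U l)
      (res F (inf_le_left : openBefore V U l ≤ V l) s)) ∧
    LeOn (V l) (gensBefore V Γ₀ l S) (ofSet (V l) T)

/-- The chosen sections. -/
noncomputable def choices : ∀ l : L, Set Γ(F, V l) :=
  WellFoundedLT.fix fun l S => Classical.epsilon (StepOK V U Γ₀ l S)

theorem choices_eq (l : L) :
    choices V U Γ₀ l = Classical.epsilon (StepOK V U Γ₀ l fun m _ => choices V U Γ₀ m) :=
  IsWellFounded.fix_eq _ _ _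

/-- A family extending `Γ₀` with charts everywhere. -/
theorem exists_extension (hF : Coh.IsQCoh F) (hV : ∀ l, IsAffineOpen (V l)) (hcov : ⨆ l, V l = ⊤)
    (hW : ∀ l, IsCompact ((V l : Set X) ∩ ⋃ m ∈ Set.Iio l, (V m : Set X)))
    (hUV : ∀ l, IsCompact ((V l : Set X) ∩ (U : Set X)))
    (hΓ₀ : ∀ g ∈ Γ₀, g.1 ≤ U) (hch : HasCharts Γ₀ U) :
    ∃ Γs : Gens F, Γ₀ ⊆ Γs ∧ HasCharts Γs ⊤ ∧ LeOn U Γs Γ₀ := by
  classical
  set S := choices V U Γ₀ with hSdef
  have main : ∀ l, StepOK V U Γ₀ l (fun m _ => S m) (S l) ∧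
      (∀ m < l, LeOn (V m) (ofSet (V l) (S l)) (ofSet (V m) (S m))) ∧
      LeOn U (ofSet (V l) (S l)) Γ₀ := by
    intro l
    induction l using WellFoundedLT.induction with
    | _ l ih =>
    set Γl := gensBefore V Γ₀ l (fun m _ => S m) with hΓl
    -- the family before `l` on earlier opens
    have hm : ∀ m < l, LeOn (V m) Γl (ofSet (V m) (S m)) := by
      rintro m hm g (hg | ⟨m', hm', hg⟩)
      · exact (ih m hm).1.2.2 g (Or.inl hg)
      · rcases lt_trichotomy m' m with h | rfl | h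
        · exact (ih m hm).1.2.2 g (Or.inr ⟨m', h, hg⟩)
        · exact leOn_of_subset Set.Subset.rfl g hg
        · exact (ih m' hm').2.1 m h g hg
    have hU : LeOn U Γl Γ₀ := by
      rintro g (hg | ⟨m', hm', hg⟩)
      · exact leOn_of_subset Set.Subset.rfl g hg
      · exact (ih m' hm').2.2 g hg
    have hchl : HasCharts Γl (openBefore V U l) := by
      rintro x ⟨hxl, hx⟩
      have hsmall : ∀ (W : X.Opens) (T : Set Γ(F, W)), x ∈ W → Chart Γl W T →
          ∃ (W' : X.Opens) (T' : Set Γ(F, W')), x ∈ W' ∧ W' ≤ openBefore V U l ∧ Chart Γl W' T' := by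
        intro W T hxW c
        obtain ⟨D, hD, hxD, hle⟩ :=
          exists_isAffineOpen_mem_and_subset (U := W ⊓ openBefore V U l) (x := x) ⟨hxW, hxl, hx⟩
        exact ⟨D, _, hxD, fun y hy => (hle hy).2, c.restrict hD fun y hy => (hle hy).1⟩
      rcases hx with hxU | hxV
      · obtain ⟨W, T, hxW, hWU, c⟩ := hch x hxU
        exact hsmall W T hxW ⟨c.affine, c.finite, fun s hs => (c.mem s hs).mono Set.subset_union_left,
          (hU.anti hWU).trans c.le⟩
      · obtain ⟨⟨m, hml⟩, hxm⟩ := Opens.mem_iSup.1 hxV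
        exact hsmall (V m) (S m) hxm ⟨hV m, (ih m hml).1.1,
          fun s hs => locSpan_gen ⟨V m, s⟩ (Or.inr ⟨m, hml, s, hs, rfl⟩), hm m hml⟩
    have hgens : ∀ g ∈ Γl, g.1 ⊓ V l ≤ openBefore V U l := by
      rintro g (hg | ⟨m, hml, s, -, rfl⟩) x ⟨hxg, hxl⟩
      · exact ⟨hxl, Or.inl (hΓ₀ g hg hxg)⟩
      · exact ⟨hxl, Or.inr (Opens.mem_iSup.2 ⟨⟨m, hml⟩, hxg⟩)⟩
    have hc : IsCompact (openBefore V U l : Set X) := by
      have h : (openBefore V U l : Set X) = ((V l : Set X) ∩ (U : Set X)) ∪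
          ((V l : Set X) ∩ ⋃ m ∈ Set.Iio l, (V m : Set X)) := by
        ext x
        simp only [openBefore, Opens.coe_inf, Opens.coe_sup, Opens.coe_iSup, Set.mem_inter_iff, Set.mem_union,
          Set.mem_iUnion, Subtype.exists, exists_prop, SetLike.mem_coe, Set.mem_Iio]
        tauto
      rw [h]
      exact (hUV l).union (hW l)
    have hOK : StepOK V U Γ₀ l (fun m _ => S m) (S l) := by
      rw [hSdef, choices_eq]
      exact Classical.epsilon_spec (p := StepOK V U Γ₀ l fun m _ => choices V U Γ₀ m)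
        (exists_step hF (hV l) inf_le_left hc hchl hgens)
    refine ⟨hOK, fun m hml => ?_, ?_⟩
    · rintro _ ⟨s, hs, rfl⟩
      have h1 := locSpan_res (le_inf inf_le_left (inf_le_right.trans (le_sup_of_le_right
        (le_iSup (fun m : Set.Iio l => V m.1) ⟨m, hml⟩))) : V l ⊓ V m ≤ openBefore V U l) (hOK.2.1 s hs)
      rw [res_res] at h1
      exact (hm m hml).locSpan inf_le_right h1
    · rintro _ ⟨s, hs, rfl⟩
      have h1 := locSpan_res (le_inf inf_le_left (inf_le_right.trans le_sup_left) :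
        V l ⊓ U ≤ openBefore V U l) (hOK.2.1 s hs)
      rw [res_res] at h1
      exact hU.locSpan inf_le_right h1
  refine ⟨Γ₀ ∪ {g | ∃ m, g ∈ ofSet (V m) (S m)}, Set.subset_union_left, ?_, ?_⟩
  · intro x _
    obtain ⟨m, hxm⟩ := Opens.mem_iSup.1 (hcov.ge (Opens.mem_top x))
    refine ⟨V m, S m, hxm, le_top, hV m, (main m).1.1,
      fun s hs => locSpan_gen ⟨V m, s⟩ (Or.inr ⟨m, s, hs, rfl⟩), ?_⟩
    rintro g (hg | ⟨m', hg⟩)
    · exact (main m).1.2.2 g (Or.inl hg)
    · rcases lt_trichotomy m' m with h | rfl | h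
      · exact (main m).1.2.2 g (Or.inr ⟨m', h, hg⟩)
      · exact leOn_of_subset Set.Subset.rfl g hg
      · exact (main m').2.1 m h g hg
  · rintro g (hg | ⟨m', hg⟩)
    · exact leOn_of_subset Set.Subset.rfl g hg
    · exact (main m').2.2 g hg

end induction

section fromOpen

variable (U : X.Opens) {G : (U : Scheme.{u}).Modules} (i : G ⟶ F.restrict U.ι)

/-- The sections of a subsheaf over an open, as sections of `F`. -/
def imageGens : Gens F :=
  {g | ∃ (W : U.toScheme.Opens) (y : Γ(G, W)), g = ⟨U.ι ''ᵁ W, show Γ(F, U.ι ''ᵁ W) from i.app W y⟩}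

theorem imageGens_le : ∀ g ∈ imageGens U i, g.1 ≤ U := by
  rintro _ ⟨W, y, rfl⟩
  exact U.ι_image_le W

theorem res_app {W D : U.toScheme.Opens} (h : D ≤ W) (y : Γ(G, W)) :
    res F (U.ι.image_mono h) (show Γ(F, U.ι ''ᵁ W) from i.app W y) =
      (show Γ(F, U.ι ''ᵁ D) from i.app D (G.presheaf.map (homOfLE h).op y)) :=
  (H10Coh.app_rs i h y).symm

theorem app_mem_span {D : U.toScheme.Opens} {P : Set Γ(G, D)} {y : Γ(G, D)}
    (hy : y ∈ Submodule.span Γ(U.toScheme, D) P) :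
    (show Γ(F, U.ι ''ᵁ D) from i.app D y) ∈ Submodule.span Γ(X, U.ι ''ᵁ D)
      ((fun p => (show Γ(F, U.ι ''ᵁ D) from i.app D p)) '' P) := by
  induction hy using Submodule.span_induction with
  | mem x hx => exact Submodule.subset_span ⟨x, hx, rfl⟩
  | zero => rw [map_zero]; exact Submodule.zero_mem _
  | add a b _ _ ha hb => rw [map_add]; exact Submodule.add_mem _ ha hb
  | smul r a _ ha =>
    rw [Scheme.Modules.Hom.app_smul]
    exact Submodule.smul_mem _ (show Γ(X, U.ι ''ᵁ D) from (U.ι.appIso D).inv r) ha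

theorem hasCharts_imageGens [G.IsQuasicoherent] (hG : CohB1.IsFT G) : HasCharts (imageGens U i) U := by
  classical
  intro x hx
  obtain ⟨W₀, hW₀, hxW₀, -⟩ :=
    exists_isAffineOpen_mem_and_subset (U := (⊤ : U.toScheme.Opens)) (x := (⟨x, hx⟩ : U)) trivial
  obtain ⟨T, hT⟩ := ((H10Coh.finite_sections G hG hW₀).fg_top : (⊤ : Submodule Γ(U.toScheme, W₀) Γ(G, W₀)).FG)
  refine ⟨U.ι ''ᵁ W₀, (fun p => (show Γ(F, U.ι ''ᵁ W₀) from i.app W₀ p)) '' (T : Set Γ(G, W₀)),
    ⟨⟨x, hx⟩, hxW₀, rfl⟩, U.ι_image_le W₀, hW₀.image_of_isOpenImmersion U.ι, T.finite_toSet.image _, ?_, ?_⟩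
  · rintro _ ⟨p, -, rfl⟩
    exact locSpan_gen ⟨U.ι ''ᵁ W₀, _⟩ ⟨W₀, p, rfl⟩
  rintro _ ⟨W', y, rfl⟩
  refine locSpan_local fun z hz => ?_
  obtain ⟨⟨z', hz'W', rfl⟩, ⟨z'', hz'', he⟩⟩ := hz
  obtain rfl : z'' = z' := U.ι.isOpenEmbedding.injective he
  obtain ⟨f, hf, hzf⟩ := hW₀.exists_basicOpen_le ⟨z'', hz'W'⟩ hz''
  refine ⟨U.ι ''ᵁ U.toScheme.basicOpen f,
    le_inf (U.ι.image_mono hf) (U.ι.image_mono (U.toScheme.basicOpen_le f)), ⟨z'', hzf, rfl⟩, ?_⟩
  rw [res_res, res_app U i hf]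
  refine locSpan_of_span ?_
  rw [gensOn_ofSet _ (U.ι.image_mono (U.toScheme.basicOpen_le f))]
  have hsp := H17.CohSub.span_basicOpen G inferInstance hW₀ f hT
  refine Submodule.span_mono ?_ (app_mem_span U i (hsp.ge (Submodule.mem_top
    (x := G.presheaf.map (homOfLE hf).op y))))
  rintro _ ⟨_, ⟨p, hp, rfl⟩, rfl⟩
  exact ⟨_, ⟨p, hp, rfl⟩, res_app U i _ p⟩

variable [Mono i]

theorem exists_of_locSpan_imageGens {W : U.toScheme.Opens} {t : Γ(F, U.ι ''ᵁ W)}
    (ht : LocSpan (imageGens U i) (U.ι ''ᵁ W) t) :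
    ∃ y : Γ(G, W), (show Γ(F, U.ι ''ᵁ W) from i.app W y) = t := by
  have hS : (ShortComplex.mk i (cokernel.π i) (cokernel.condition i)).ShortExact :=
    ShortComplex.ShortExact.mk' (ShortComplex.exact_cokernel i) inferInstance inferInstance
  let t' : Γ(F.restrict U.ι, W) := t
  refine H10Coh.exists_app_eq_of_exact hS W t' ?_
  refine TopCat.Sheaf.eq_of_locally_eq' (H10Coh.sheafOf (cokernel i))
    (fun D : {D : U.toScheme.Opens // ∃ h : D ≤ W,
      res F (U.ι.image_mono h) t ∈ Submodule.span Γ(X, U.ι ''ᵁ D) (gensOn (imageGens U i) (U.ι ''ᵁ D))} => D.1)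
    W (fun D => homOfLE D.2.choose) ?_ _ _ fun D => ?_
  · intro z hz
    obtain ⟨E, hE, hzE, hspan⟩ := ht (U.ι z) ⟨z, hz, rfl⟩
    have hle : U.ι ''ᵁ (U.ι ⁻¹ᵁ E) ≤ E := U.ι.image_preimage_le E
    refine Opens.mem_iSup.2 ⟨⟨U.ι ⁻¹ᵁ E, fun a ha => ?_, ?_⟩, hzE⟩
    · obtain ⟨b, hb, hba⟩ := hE ha
      rwa [← U.ι.isOpenEmbedding.injective hba]
    · have := span_gensOn_res hle hspan
      rwa [res_res] at this
  · obtain ⟨hDW, hspan⟩ := D.2
    refine Eq.trans ?_ (map_zero _).symm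
    refine (H10Coh.app_rs (cokernel.π i) hDW t').symm.trans ?_
    suffices h : ∀ z ∈ Submodule.span Γ(X, U.ι ''ᵁ D.1) (gensOn (imageGens U i) (U.ι ''ᵁ D.1)),
        (cokernel.π i).app D.1 (show Γ(F.restrict U.ι, D.1) from z) = 0 from h _ hspan
    intro z hz
    induction hz using Submodule.span_induction with
    | mem z hz =>
      obtain ⟨_, ⟨W', y, rfl⟩, hD, rfl⟩ := hz
      have hDW' : D.1 ≤ W' := fun a ha => by
        obtain ⟨b, hb, hba⟩ := hD ⟨a, ha, rfl⟩
        rwa [← U.ι.isOpenEmbedding.injective hba]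
      rw [show res F hD (show Γ(F, U.ι ''ᵁ W') from i.app W' y) =
        (show Γ(F, U.ι ''ᵁ D.1) from i.app D.1 (G.presheaf.map (homOfLE hDW').op y)) from res_app U i hDW' y]
      exact congr($(congr(Scheme.Modules.Hom.app $(cokernel.condition i) D.1)) (G.presheaf.map (homOfLE hDW').op y))
    | zero => exact map_zero _
    | add a b _ _ ha hb =>
      refine (map_add ((cokernel.π i).app D.1).hom (show Γ(F.restrict U.ι, D.1) from a)
        (show Γ(F.restrict U.ι, D.1) from b)).trans ?_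
      exact (congrArg₂ (· + ·) ha hb).trans (add_zero _)
    | smul r a _ ha =>
      let r' : Γ(U.toScheme, D.1) := (U.ι.appIso D.1).hom r
      have hr : (show Γ(F.restrict U.ι, D.1) from r • a) = r' • (show Γ(F.restrict U.ι, D.1) from a) :=
        congrArg (fun c : Γ(X, U.ι ''ᵁ D.1) => c • a)
          (congr($((U.ι.appIso D.1).hom_inv_id) r)).symm
      rw [hr]
      refine Eq.trans (Scheme.Modules.Hom.app_smul (cokernel.π i) r' (show Γ(F.restrict U.ι, D.1) from a)) ?_
      rw [ha, smul_zero]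

/-- The extension of a finite type subsheaf. -/
theorem exists_extension_subsheaf {L : Type v} [LinearOrder L] [WellFoundedLT L] (V : L → X.Opens)
    (hF : Coh.IsQCoh F) (hV : ∀ l, IsAffineOpen (V l)) (hcov : ⨆ l, V l = ⊤)
    (hW : ∀ l, IsCompact ((V l : Set X) ∩ ⋃ m ∈ Set.Iio l, (V m : Set X)))
    (hUV : ∀ l, IsCompact ((V l : Set X) ∩ (U : Set X))) (hGq : Coh.IsQCoh G) (hG : CohB1.IsFT G) :
    ∃ (G' : X.Modules) (i' : G' ⟶ F) (e : G'.restrict U.ι ≅ G), Mono i' ∧ Coh.IsQCoh G' ∧ CohB1.IsFT G' ∧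
      e.hom ≫ i = (Scheme.Modules.restrictFunctor U.ι).map i' := by
  haveI : G.IsQuasicoherent := hGq
  obtain ⟨Γs, hsub, hch, hle⟩ := exists_extension V U (imageGens U i) hF hV hcov hW hUV (imageGens_le U i)
    (hasCharts_imageGens U i hG)
  haveI : Mono ((Scheme.Modules.restrictFunctor U.ι).map (spanι Γs)) :=
    Preadditive.mono_of_cancel_zero _ fun {T} g hg => Scheme.Modules.hom_ext _ _ fun W => by
      ext x
      exact spanι_injective Γs (U.ι ''ᵁ W)
        ((congr($(congr(Scheme.Modules.Hom.app $hg W)) x)).trans (map_zero _).symm)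
  obtain ⟨e, he⟩ := exists_iso_of_range_eq ((Scheme.Modules.restrictFunctor U.ι).map (spanι Γs)) i fun W t => by
    constructor
    · rintro ⟨y, rfl⟩
      exact exists_of_locSpan_imageGens U i
        (hle.locSpan (U.ι_image_le W) ((mem_range_spanι Γs).1 ⟨y, rfl⟩))
    · rintro ⟨y, rfl⟩
      exact (mem_range_spanι Γs).2 (locSpan_gen ⟨U.ι ''ᵁ W, _⟩ (hsub ⟨W, y, rfl⟩))
  exact ⟨spanMod Γs, spanι Γs, e, inferInstance, isQuasicoherent_spanMod hF hch, isFT_spanMod hF hch, he⟩

end fromOpen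

/-- An index type for a well-ordered affine cover. -/
def AffIdx (X : Scheme.{u}) : Type u := X.affineOpens

theorem isCompact_inter_open (V U : X.Opens) (hV : IsAffineOpen V) [QuasiCompact U.ι] :
    IsCompact ((V : Set X) ∩ (U : Set X)) := by
  have h := (QuasiCompact.isCompact_preimage (f := U.ι) (V : Set X) V.2 hV.isCompact).image U.ι.continuous
  rwa [Set.image_preimage_eq_inter_range, Scheme.Opens.range_ι] at h

theorem isCompact_of_subset_affine
    (hX : ∀ x : X, ∃ U : X.Opens, x ∈ U ∧ NoetherianSpace (U : Set X)) {V : X.Opens} (hV : IsAffineOpen V)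
    {s : Set X} (hs : s ⊆ V) : IsCompact s :=
  H17.isCompact_of_subset_compact (fun x => by
    obtain ⟨U, hxU, hU⟩ := hX x
    exact ⟨U, U.2.mem_nhds hxU, hU⟩) hV.isCompact hs

/-- A family extending a given one with charts everywhere, on a locally Noetherian space. -/
theorem exists_extension_locallyNoetherian
    (hX : ∀ x : X, ∃ U : X.Opens, x ∈ U ∧ NoetherianSpace (U : Set X)) (U : X.Opens) {Γ₀ : Gens F}
    (hF : Coh.IsQCoh F) (hΓ₀ : ∀ g ∈ Γ₀, g.1 ≤ U) (hch : HasCharts Γ₀ U) :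
    ∃ Γs : Gens F, Γ₀ ⊆ Γs ∧ HasCharts Γs ⊤ ∧ LeOn U Γs Γ₀ := by
  classical
  letI : LinearOrder (AffIdx X) := linearOrderOfSTO WellOrderingRel
  haveI : WellFoundedLT (AffIdx X) := ⟨WellOrderingRel.isWellOrder.wf⟩
  exact exists_extension (fun l : AffIdx X => (show X.affineOpens from l).1) U Γ₀ hF
    (fun l => (show X.affineOpens from l).2) (iSup_affineOpens_eq_top X)
    (fun l => isCompact_of_subset_affine hX (show X.affineOpens from l).2 Set.inter_subset_left)
    (fun l => isCompact_of_subset_affine hX (show X.affineOpens from l).2 Set.inter_subset_left) hΓ₀ hch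

theorem exists_extension_subsheaf_locallyNoetherian
    (hX : ∀ x : X, ∃ U : X.Opens, x ∈ U ∧ NoetherianSpace (U : Set X)) (U : X.Opens)
    {G : (U : Scheme.{u}).Modules} (i : G ⟶ F.restrict U.ι) [Mono i]
    (hF : Coh.IsQCoh F) (hGq : Coh.IsQCoh G) (hG : CohB1.IsFT G) :
    ∃ (G' : X.Modules) (i' : G' ⟶ F) (e : G'.restrict U.ι ≅ G), Mono i' ∧ Coh.IsQCoh G' ∧ CohB1.IsFT G' ∧
      e.hom ≫ i = (Scheme.Modules.restrictFunctor U.ι).map i' := by
  classical
  letI : LinearOrder (AffIdx X) := linearOrderOfSTO WellOrderingRel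
  haveI : WellFoundedLT (AffIdx X) := ⟨WellOrderingRel.isWellOrder.wf⟩
  exact exists_extension_subsheaf U i (fun l : AffIdx X => (show X.affineOpens from l).1) hF
    (fun l => (show X.affineOpens from l).2) (iSup_affineOpens_eq_top X)
    (fun l => isCompact_of_subset_affine hX (show X.affineOpens from l).2 Set.inter_subset_left)
    (fun l => isCompact_of_subset_affine hX (show X.affineOpens from l).2 Set.inter_subset_left) hGq hG

end Groth.Agent.LeadQSub
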