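import Groth.Agent.LeadQSub.LocSpan
import Groth.Agent.H10Coh.HigherDirect
import Groth.Agent.H10Coh.FinType2

/-!
# The subsheaf spanned by a family of sections
-/

set_option autoImplicit false
set_option linter.style.haveILetI false
set_option linter.unusedSectionVars false

universe u

open CategoryTheory CategoryTheory.Limits AlgebraicGeometry Opposite TopologicalSpace

namespace Groth.Agent.LeadQSub

variable {X : Scheme.{u}} {F : X.Modules} (Γs : Gens F)

/-- The sections locally in the span. -/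
def spanSub (W : X.Opens) : Submodule Γ(X, W) Γ(F, W) where
  carrier := {t | LocSpan Γs W t}
  add_mem' := LocSpan.add
  zero_mem' := locSpan_zero Γs W
  smul_mem' := fun a _ h => LocSpan.smul a h

theorem mem_spanSub {W : X.Opens} {t : Γ(F, W)} : t ∈ spanSub Γs W ↔ LocSpan Γs W t := Iff.rfl

/-- The sections locally in the span, as an object over the ring presheaf. -/
noncomputable def spanObj (U : X.Opensᵒᵖ) : ModuleCat.{u} (X.ringCatSheaf.obj.obj U) :=
  @ModuleCat.of (X.ringCatSheaf.obj.obj U) _ ↥(spanSub Γs U.unop) _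
    (show Module Γ(X, U.unop) ↥(spanSub Γs U.unop) from inferInstance)

/-- The presheaf of modules of sections locally in the span. -/
noncomputable def spanPre : PresheafOfModules.{u} X.ringCatSheaf.obj where
  obj U := spanObj Γs U
  map {U V} f := ModuleCat.ofHom
    (X := spanObj Γs U)
    (Y := (ModuleCat.restrictScalars (X.ringCatSheaf.obj.map f).hom).obj (spanObj Γs V))
    { toFun := fun x => ⟨res F f.unop.le x.1, locSpan_res f.unop.le x.2⟩
      map_add' := fun x y => Subtype.ext (map_add _ _ _)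
      map_smul' := fun a x => Subtype.ext (res_smul f.unop.le a x.1) }
  map_id U := by
    ext x
    exact Subtype.ext (res_self _ x.1)
  map_comp {U V W} f g := by
    ext x
    exact Subtype.ext (res_res _ _ x.1).symm

theorem isSheaf_spanPre : TopCat.Presheaf.IsSheaf (X := X) (spanPre Γs).presheaf := by
  refine (TopCat.Presheaf.isSheaf_iff_isSheafUniqueGluing _).2 fun ι U sf hsf => ?_
  let sf' : ∀ i, Γ(F, U i) := fun i => (sf i).1
  have hcompat : TopCat.Presheaf.IsCompatible (H10Coh.sheafOf F).obj U sf' := fun i j =>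
    congrArg Subtype.val (hsf i j)
  obtain ⟨s, hs, huniq⟩ := (H10Coh.sheafOf F).existsUnique_gluing U sf' hcompat
  have hs' : ∀ i, res F (le_iSup U i) s = sf' i := fun i => hs i
  have hmem : LocSpan Γs (iSup U) s := locSpan_local fun x hx => by
    obtain ⟨i, hi⟩ := Opens.mem_iSup.1 hx
    exact ⟨U i, le_iSup U i, hi, by rw [hs' i]; exact (sf i).2⟩
  refine ⟨⟨s, hmem⟩, fun i => Subtype.ext (hs i), fun t ht => Subtype.ext (huniq t.1 fun i => ?_)⟩
  exact congrArg Subtype.val (ht i)

/-- The subsheaf spanned by the family. -/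
noncomputable def spanMod : X.Modules := ⟨spanPre Γs, isSheaf_spanPre Γs⟩

/-- The inclusion. -/
noncomputable def spanι : spanMod Γs ⟶ F :=
  ⟨{ app := fun U => ModuleCat.ofHom (X := (spanPre Γs).obj U) (Y := F.val.obj U)
      (Submodule.subtype (spanSub Γs U.unop))
     naturality := fun _ => rfl }⟩

theorem spanι_injective (W : X.Opens) : Function.Injective ((spanι Γs).app W) := fun _ _ h => Subtype.ext h

theorem mem_range_spanι {W : X.Opens} {t : Γ(F, W)} :
    (∃ y, (spanι Γs).app W y = t) ↔ LocSpan Γs W t :=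
  ⟨by rintro ⟨y, rfl⟩; exact y.2, fun h => ⟨⟨t, h⟩, rfl⟩⟩

instance mono_spanι : Mono (spanι Γs) :=
  Preadditive.mono_of_cancel_zero _ fun {T} g hg => Scheme.Modules.hom_ext _ _ fun W => by
    ext x
    exact spanι_injective Γs W ((congr($(congr(Scheme.Modules.Hom.app $hg W)) x)).trans (map_zero _).symm)

/-- Two submodules with the same sections are isomorphic. -/
theorem exists_iso_of_range_eq {A B M : X.Modules} (a : A ⟶ M) (b : B ⟶ M) [Mono a] [Mono b]
    (h : ∀ (U : X.Opens) (t : Γ(M, U)), (∃ x, a.app U x = t) ↔ ∃ y, b.app U y = t) :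
    ∃ e : A ≅ B, e.hom ≫ b = a := by
  have hz : ∀ {A B : X.Modules} (a : A ⟶ M) (b : B ⟶ M),
      (∀ (U : X.Opens) (t : Γ(M, U)), (∃ x, a.app U x = t) → ∃ y, b.app U y = t) →
        a ≫ cokernel.π b = 0 := fun {A B} a b h' => Scheme.Modules.hom_ext _ _ fun U => by
    ext x
    obtain ⟨y, hy⟩ := h' U _ ⟨x, rfl⟩
    show (cokernel.π b).app U (a.app U x) = 0
    rw [← hy]
    exact congr($(congr(Scheme.Modules.Hom.app $(cokernel.condition b) U)) y)
  let u := Abelian.monoLift b a (hz a b fun U t => (h U t).1)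
  let v := Abelian.monoLift a b (hz b a fun U t => (h U t).2)
  have hu : u ≫ b = a := Abelian.monoLift_comp b a _
  have hv : v ≫ a = b := Abelian.monoLift_comp a b _
  refine ⟨⟨u, v, ?_, ?_⟩, hu⟩
  · rw [← cancel_mono a, Category.assoc, hv, hu, Category.id_comp]
  · rw [← cancel_mono b, Category.assoc, hu, hv, Category.id_comp]

variable {Γs} (hF : Coh.IsQCoh F) (hch : HasCharts Γs (⊤ : X.Opens))

include hF hch

theorem isQuasicoherent_spanMod : (spanMod Γs).IsQuasicoherent := by
  refine H10Coh.isQuasicoherent_of_localizing _ (fun W hW t s hs => ?_) fun W hW t s' => ?_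
  · obtain ⟨n, hn⟩ := H29Blow.exists_pow_smul_eq_zero F hF hW t s.1 (congrArg Subtype.val hs)
    exact ⟨n, Subtype.ext hn⟩
  · have hW' : HasCharts Γs W := fun x hx => by
      obtain ⟨V, S, hxV, -, c⟩ := hch x trivial
      obtain ⟨D, hD, hxD, hle⟩ := exists_isAffineOpen_mem_and_subset (U := W ⊓ V) (x := x) ⟨hx, hxV⟩
      exact ⟨D, _, hxD, fun y hy => (hle hy).1, c.restrict hD fun y hy => (hle hy).2⟩
    obtain ⟨N, s, hs, hsO⟩ := exists_lift hF hW le_rfl hW.isCompact hW' t s'.1 s'.2
    rw [res_self] at hsO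
    exact ⟨N, ⟨s, hsO⟩, Subtype.ext hs⟩

theorem isFT_spanMod : CohB1.IsFT (spanMod Γs) := by
  haveI := isQuasicoherent_spanMod hF hch
  refine (H10Coh.isFT_isFP_of_affineCover (spanMod Γs)
    (I := {V : X.Opens // ∃ S, Chart Γs V S}) (fun V => V.1) ?_ (fun V => V.2.choose_spec.affine) fun V => ?_).1
  · refine eq_top_iff.2 fun x _ => ?_
    obtain ⟨V, S, hxV, -, c⟩ := hch x trivial
    exact Opens.mem_iSup.2 ⟨⟨V, S, c⟩, hxV⟩
  · obtain ⟨V, hV⟩ := V
    obtain ⟨S, c⟩ := hV
    have he : spanSub Γs V = Submodule.span Γ(X, V) S := Submodule.ext fun t => c.span hF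
    haveI : Module.Finite Γ(X, V) ↥(Submodule.span Γ(X, V) S) := Module.Finite.span_of_finite _ c.finite
    exact Module.Finite.equiv (LinearEquiv.ofEq _ _ he.symm)

end Groth.Agent.LeadQSub
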