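import Groth.Agent.H10Coh.CohLocal
import Groth.Agent.H10Coh.FinType
import Groth.Agent.H29Blow.QCohLoc

/-!
# Submodules of a quasi-coherent module given by local generators

`LocSpan Γs W t` says that `t` is, locally on `W`, a combination of the given sections.
A chart of a family `Γs` is an affine open with a finite set of sections spanning the same submodules on it.
-/

set_option autoImplicit false
set_option linter.style.haveILetI false
set_option linter.unusedSectionVars false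

universe u

open CategoryTheory AlgebraicGeometry Opposite TopologicalSpace

namespace Groth.Agent.LeadQSub

variable {X : Scheme.{u}}

/-- Restriction of sections of a module. -/
noncomputable abbrev res (F : X.Modules) {U V : X.Opens} (h : V ≤ U) : Γ(F, U) →+ Γ(F, V) := H10Coh.rs F h

/-- Restriction of functions. -/
abbrev rres {U V : X.Opens} (h : V ≤ U) : Γ(X, U) →+* Γ(X, V) := (X.presheaf.map (homOfLE h).op).hom

variable {F : X.Modules}

theorem res_smul {U V : X.Opens} (h : V ≤ U) (a : Γ(X, U)) (x : Γ(F, U)) :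
    res F h (a • x) = rres h a • res F h x := Scheme.Modules.map_smul F (homOfLE h) a x

theorem res_res {U V W : X.Opens} (h : V ≤ U) (h' : W ≤ V) (x : Γ(F, U)) :
    res F h' (res F h x) = res F (h'.trans h) x := H10Coh.rs_rs F h h' x

theorem res_self {U : X.Opens} (h : U ≤ U) (x : Γ(F, U)) : res F h x = x := H10Coh.rs_self F h x

theorem rres_rres {U V W : X.Opens} (h : V ≤ U) (h' : W ≤ V) (x : Γ(X, U)) :
    rres h' (rres h x) = rres (h'.trans h) x := H10Coh.rres_rres h h' x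

theorem isUnit_rres_pow {W : X.Opens} (t : Γ(X, W)) (n : ℕ) {D : X.Opens} (hD : D ≤ X.basicOpen t)
    (hDW : D ≤ W) : IsUnit (rres hDW (t ^ n)) := by
  have h1 : IsUnit (rres (X.basicOpen_le t) t) := RingedSpace.isUnit_res_basicOpen _ t
  have h2 := h1.map (rres hD)
  rw [rres_rres] at h2
  rw [map_pow]
  exact h2.pow n

variable (F) in
/-- A family of sections over various opens. -/
abbrev Gens : Type u := Set (Σ W : X.Opens, Γ(F, W))

/-- The restrictions to `D` of the members of a family defined on `D`. -/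
def gensOn (Γs : Gens F) (D : X.Opens) : Set Γ(F, D) :=
  {z | ∃ g ∈ Γs, ∃ h : D ≤ g.1, z = res F h g.2}

/-- Locally a combination of the family. -/
def LocSpan (Γs : Gens F) (W : X.Opens) (t : Γ(F, W)) : Prop :=
  ∀ x ∈ W, ∃ (D : X.Opens) (h : D ≤ W), x ∈ D ∧ res F h t ∈ Submodule.span Γ(X, D) (gensOn Γs D)

/-- The family of one set of sections over one open. -/
def ofSet (V : X.Opens) (S : Set Γ(F, V)) : Gens F := {g | ∃ s ∈ S, g = ⟨V, s⟩}

theorem res_mem_gensOn {Γs : Gens F} {D D' : X.Opens} (h : D' ≤ D) {z : Γ(F, D)} (hz : z ∈ gensOn Γs D) :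
    res F h z ∈ gensOn Γs D' := by
  obtain ⟨g, hg, hD, rfl⟩ := hz
  exact ⟨g, hg, h.trans hD, res_res hD h g.2⟩

theorem res_mem_span {D D' : X.Opens} (h : D' ≤ D) {P : Set Γ(F, D)} {P' : Set Γ(F, D')}
    (hP : ∀ p ∈ P, res F h p ∈ Submodule.span Γ(X, D') P') {z : Γ(F, D)}
    (hz : z ∈ Submodule.span Γ(X, D) P) : res F h z ∈ Submodule.span Γ(X, D') P' := by
  induction hz using Submodule.span_induction with
  | mem x hx => exact hP x hx
  | zero => rw [map_zero]; exact Submodule.zero_mem _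
  | add x y _ _ hx hy => rw [map_add]; exact Submodule.add_mem _ hx hy
  | smul a x _ hx => rw [res_smul]; exact Submodule.smul_mem _ _ hx

theorem span_gensOn_res {Γs : Gens F} {D D' : X.Opens} (h : D' ≤ D) {z : Γ(F, D)}
    (hz : z ∈ Submodule.span Γ(X, D) (gensOn Γs D)) :
    res F h z ∈ Submodule.span Γ(X, D') (gensOn Γs D') :=
  res_mem_span h (fun _ hp => Submodule.subset_span (res_mem_gensOn h hp)) hz

theorem locSpan_res {Γs : Gens F} {W W' : X.Opens} (h : W' ≤ W) {t : Γ(F, W)} (ht : LocSpan Γs W t) :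
    LocSpan Γs W' (res F h t) := fun x hx => by
  obtain ⟨D, hD, hxD, hm⟩ := ht x (h hx)
  refine ⟨D ⊓ W', inf_le_right, ⟨hxD, hx⟩, ?_⟩
  have := span_gensOn_res (Γs := Γs) (inf_le_left : D ⊓ W' ≤ D) hm
  rwa [res_res] at this ⊢

theorem locSpan_of_span {Γs : Gens F} {W : X.Opens} {t : Γ(F, W)}
    (h : t ∈ Submodule.span Γ(X, W) (gensOn Γs W)) : LocSpan Γs W t :=
  fun x hx => ⟨W, le_rfl, hx, by rwa [res_self]⟩

theorem locSpan_gen {Γs : Gens F} (g : Σ W : X.Opens, Γ(F, W)) (hg : g ∈ Γs) : LocSpan Γs g.1 g.2 :=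
  locSpan_of_span (Submodule.subset_span ⟨g, hg, le_rfl, (res_self _ _).symm⟩)

theorem locSpan_zero (Γs : Gens F) (W : X.Opens) : LocSpan Γs W 0 := locSpan_of_span (Submodule.zero_mem _)

theorem LocSpan.add {Γs : Gens F} {W : X.Opens} {s t : Γ(F, W)} (hs : LocSpan Γs W s) (ht : LocSpan Γs W t) :
    LocSpan Γs W (s + t) := fun x hx => by
  obtain ⟨D, hD, hxD, hm⟩ := hs x hx
  obtain ⟨E, hE, hxE, hn⟩ := ht x hx
  refine ⟨D ⊓ E, inf_le_left.trans hD, ⟨hxD, hxE⟩, ?_⟩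
  have h1 := span_gensOn_res (Γs := Γs) (inf_le_left : D ⊓ E ≤ D) hm
  have h2 := span_gensOn_res (Γs := Γs) (inf_le_right : D ⊓ E ≤ E) hn
  rw [res_res] at h1 h2
  rw [map_add]
  exact Submodule.add_mem _ h1 h2

theorem LocSpan.smul {Γs : Gens F} {W : X.Opens} (a : Γ(X, W)) {t : Γ(F, W)} (ht : LocSpan Γs W t) :
    LocSpan Γs W (a • t) := fun x hx => by
  obtain ⟨D, hD, hxD, hm⟩ := ht x hx
  exact ⟨D, hD, hxD, by rw [res_smul]; exact Submodule.smul_mem _ _ hm⟩

theorem locSpan_of_span_subset {Γs : Gens F} {W : X.Opens} {P : Set Γ(F, W)} (hP : ∀ p ∈ P, LocSpan Γs W p)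
    {t : Γ(F, W)} (ht : t ∈ Submodule.span Γ(X, W) P) : LocSpan Γs W t := by
  induction ht using Submodule.span_induction with
  | mem x hx => exact hP x hx
  | zero => exact locSpan_zero Γs W
  | add x y _ _ hx hy => exact hx.add hy
  | smul a x _ hx => exact hx.smul a

theorem locSpan_local {Γs : Gens F} {W : X.Opens} {t : Γ(F, W)}
    (h : ∀ x ∈ W, ∃ (D : X.Opens) (hD : D ≤ W), x ∈ D ∧ LocSpan Γs D (res F hD t)) : LocSpan Γs W t :=
  fun x hx => by
  obtain ⟨D, hD, hxD, hm⟩ := h x hx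
  obtain ⟨E, hE, hxE, hn⟩ := hm x hxD
  exact ⟨E, hE.trans hD, hxE, by rwa [res_res] at hn⟩

theorem LocSpan.mono {Γ₁ Γ₂ : Gens F} (h : Γ₁ ⊆ Γ₂) {W : X.Opens} {t : Γ(F, W)} (ht : LocSpan Γ₁ W t) :
    LocSpan Γ₂ W t := fun x hx => by
  obtain ⟨D, hD, hxD, hm⟩ := ht x hx
  refine ⟨D, hD, hxD, Submodule.span_mono ?_ hm⟩
  rintro z ⟨g, hg, hgD, rfl⟩
  exact ⟨g, h hg, hgD, rfl⟩

/-- On opens inside `V`, the family `Γ₁` is in the span of `Γ₂`. -/
def LeOn (V : X.Opens) (Γ₁ Γ₂ : Gens F) : Prop :=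
  ∀ g ∈ Γ₁, LocSpan Γ₂ (g.1 ⊓ V) (res F inf_le_left g.2)

theorem LeOn.locSpan {V : X.Opens} {Γ₁ Γ₂ : Gens F} (h : LeOn V Γ₁ Γ₂) {W : X.Opens} (hW : W ≤ V)
    {t : Γ(F, W)} (ht : LocSpan Γ₁ W t) : LocSpan Γ₂ W t := by
  refine locSpan_local fun x hx => ?_
  obtain ⟨D, hD, hxD, hm⟩ := ht x hx
  refine ⟨D, hD, hxD, locSpan_of_span_subset ?_ hm⟩
  rintro z ⟨g, hg, hgD, rfl⟩
  have := locSpan_res (le_inf hgD (hD.trans hW)) (h g hg)
  rwa [res_res] at this

theorem LeOn.trans {V : X.Opens} {Γ₁ Γ₂ Γ₃ : Gens F} (h₁ : LeOn V Γ₁ Γ₂) (h₂ : LeOn V Γ₂ Γ₃) :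
    LeOn V Γ₁ Γ₃ := fun g hg => h₂.locSpan inf_le_right (h₁ g hg)

theorem LeOn.anti {V V' : X.Opens} {Γ₁ Γ₂ : Gens F} (h : LeOn V Γ₁ Γ₂) (hV : V' ≤ V) : LeOn V' Γ₁ Γ₂ :=
  fun g hg => by
  have := locSpan_res (inf_le_inf_left g.1 hV) (h g hg)
  rwa [res_res] at this

theorem leOn_of_subset {V : X.Opens} {Γ₁ Γ₂ : Gens F} (h : Γ₁ ⊆ Γ₂) : LeOn V Γ₁ Γ₂ :=
  fun g hg => locSpan_res inf_le_left (locSpan_gen g (h hg))

theorem gensOn_ofSet {V D : X.Opens} (S : Set Γ(F, V)) (h : D ≤ V) :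
    gensOn (ofSet V S) D = res F h '' S := by
  ext z
  constructor
  · rintro ⟨g, ⟨s, hs, rfl⟩, hD, rfl⟩
    exact ⟨s, hs, rfl⟩
  · rintro ⟨s, hs, rfl⟩
    exact ⟨⟨V, s⟩, ⟨s, hs, rfl⟩, h, rfl⟩

theorem exists_pow_mem_span (hF : Coh.IsQCoh F) {W : X.Opens} (hW : IsAffineOpen W) (t : Γ(X, W))
    (P : Set Γ(F, W)) (z : Γ(F, W))
    (hz : res F (X.basicOpen_le t) z ∈
      Submodule.span Γ(X, X.basicOpen t) (res F (X.basicOpen_le t) '' P)) :
    ∃ N : ℕ, t ^ N • z ∈ Submodule.span Γ(X, W) P := by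
  have key : ∀ y ∈ Submodule.span Γ(X, X.basicOpen t) (res F (X.basicOpen_le t) '' P),
      ∃ (n : ℕ) (w : Γ(F, W)), w ∈ Submodule.span Γ(X, W) P ∧
        res F (X.basicOpen_le t) w = rres (X.basicOpen_le t) (t ^ n) • y := by
    intro y hy
    induction hy using Submodule.span_induction with
    | mem x hx =>
      obtain ⟨p, hp, rfl⟩ := hx
      exact ⟨0, p, Submodule.subset_span hp, by rw [pow_zero, map_one, one_smul]⟩
    | zero => exact ⟨0, 0, Submodule.zero_mem _, by simp⟩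
    | add x y _ _ hx hy =>
      obtain ⟨a, u, hu, hu'⟩ := hx
      obtain ⟨b, v, hv, hv'⟩ := hy
      refine ⟨a + b, t ^ b • u + t ^ a • v,
        Submodule.add_mem _ (Submodule.smul_mem _ _ hu) (Submodule.smul_mem _ _ hv), ?_⟩
      rw [map_add, res_smul, res_smul, hu', hv', smul_smul, smul_smul, ← map_mul, ← map_mul, ← pow_add,
        ← pow_add, add_comm b a, ← smul_add]
    | smul c x _ hx =>
      obtain ⟨a, u, hu, hu'⟩ := hx
      haveI := hW.isLocalization_basicOpen t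
      obtain ⟨k, d, hd⟩ := IsLocalization.Away.surj t c
      refine ⟨a + k, d • u, Submodule.smul_mem _ _ hu, ?_⟩
      rw [res_smul, hu', smul_smul, smul_smul, pow_add, map_mul, map_pow _ t k]
      congr 1
      change algebraMap _ _ d * _ = _ * algebraMap _ _ t ^ k * _
      rw [← hd]
      ring!
  obtain ⟨n, w, hw, hwz⟩ := key _ hz
  obtain ⟨k, hk⟩ := H29Blow.exists_pow_smul_eq_zero F hF hW t (t ^ n • z - w) (by
    show res F (X.basicOpen_le t) (t ^ n • z - w) = 0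
    rw [map_sub, res_smul, hwz, sub_self])
  refine ⟨k + n, ?_⟩
  rw [pow_add, mul_smul, ← sub_add_cancel (t ^ n • z) w, smul_add, hk, zero_add]
  exact Submodule.smul_mem _ _ hw

/-- Over an affine open, locally in the span of global sections means in the span. -/
theorem span_of_locSpan (hF : Coh.IsQCoh F) {W : X.Opens} (hW : IsAffineOpen W) (P : Set Γ(F, W))
    {t : Γ(F, W)} (ht : LocSpan (ofSet W P) W t) : t ∈ Submodule.span Γ(X, W) P := by
  let I : Ideal Γ(X, W) := (Submodule.span Γ(X, W) P).colon {t}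
  by_contra hc
  have hI : I ≠ ⊤ := fun h => hc (by
    have h1 : (1 : Γ(X, W)) ∈ I := h ▸ Submodule.mem_top
    have := Submodule.mem_colon_singleton.1 h1
    rwa [one_smul] at this)
  obtain ⟨m, hm, hIm⟩ := Ideal.exists_le_maximal I hI
  let p : PrimeSpectrum Γ(X, W) := ⟨m, hm.isPrime⟩
  have hxW : hW.fromSpec p ∈ W := hW.range_fromSpec.le ⟨p, rfl⟩
  obtain ⟨D, hD, hxD, hspan⟩ := ht _ hxW
  obtain ⟨f, hf, hxf⟩ := hW.exists_basicOpen_le ⟨_, hxD⟩ hxW
  have h1 := span_gensOn_res hf hspan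
  rw [res_res, gensOn_ofSet P (X.basicOpen_le f)] at h1
  obtain ⟨N, hN⟩ := exists_pow_mem_span hF hW f P t h1
  have hfm : f ∈ m := hm.isPrime.mem_of_pow_mem N (hIm (Submodule.mem_colon_singleton.2 hN))
  have hp : p ∈ hW.fromSpec ⁻¹ᵁ X.basicOpen f := hxf
  rw [hW.fromSpec_preimage_basicOpen] at hp
  exact hp hfm

/-- An affine open with a finite set of sections with the same span as `Γs` on it. -/
structure Chart (Γs : Gens F) (V : X.Opens) (S : Set Γ(F, V)) : Prop where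
  affine : IsAffineOpen V
  finite : S.Finite
  mem : ∀ s ∈ S, LocSpan Γs V s
  le : LeOn V Γs (ofSet V S)

theorem Chart.restrict {Γs : Gens F} {V : X.Opens} {S : Set Γ(F, V)} (c : Chart Γs V S) {W : X.Opens}
    (hW : IsAffineOpen W) (h : W ≤ V) : Chart Γs W (res F h '' S) := by
  refine ⟨hW, c.finite.image _, ?_, fun g hg => ?_⟩
  · rintro _ ⟨s, hs, rfl⟩
    exact locSpan_res h (c.mem s hs)
  · refine (show LeOn W (ofSet V S) (ofSet W (res F h '' S)) from ?_).locSpan inf_le_right (c.le.anti h g hg)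
    rintro _ ⟨s, hs, rfl⟩
    refine locSpan_of_span (Submodule.subset_span ?_)
    rw [gensOn_ofSet _ inf_le_right]
    exact ⟨res F h s, ⟨s, hs, rfl⟩, res_res h inf_le_right s⟩

theorem Chart.span (hF : Coh.IsQCoh F) {Γs : Gens F} {V : X.Opens} {S : Set Γ(F, V)} (c : Chart Γs V S)
    {t : Γ(F, V)} : LocSpan Γs V t ↔ t ∈ Submodule.span Γ(X, V) S :=
  ⟨fun ht => span_of_locSpan hF c.affine S (c.le.locSpan le_rfl ht), locSpan_of_span_subset c.mem⟩

theorem Chart.span_of_le (hF : Coh.IsQCoh F) {Γs : Gens F} {V : X.Opens} {S : Set Γ(F, V)}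
    (c : Chart Γs V S) {W : X.Opens} (hW : IsAffineOpen W) (h : W ≤ V) {t : Γ(F, W)} :
    LocSpan Γs W t ↔ t ∈ Submodule.span Γ(X, W) (res F h '' S) :=
  (c.restrict hW h).span hF

/-- Every point of `O` lies in a chart contained in `O`. -/
def HasCharts (Γs : Gens F) (O : X.Opens) : Prop :=
  ∀ x ∈ O, ∃ (V : X.Opens) (S : Set Γ(F, V)), x ∈ V ∧ V ≤ O ∧ Chart Γs V S

theorem exists_finite_charts {Γs : Gens F} {W O : X.Opens} (hW : IsAffineOpen W) (hO : O ≤ W)
    (hc : IsCompact (O : Set X)) (hch : HasCharts Γs O) :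
    ∃ T : Finset Γ(X, W), (∀ f ∈ T, X.basicOpen f ≤ O ∧ ∃ S, Chart Γs (X.basicOpen f) S) ∧
      ∀ x ∈ O, ∃ f ∈ T, x ∈ X.basicOpen f := by
  have h : ∀ x : O, ∃ f : Γ(X, W), x.1 ∈ X.basicOpen f ∧ X.basicOpen f ≤ O ∧
      ∃ S, Chart Γs (X.basicOpen f) S := by
    intro x
    obtain ⟨V, S, hxV, hVO, c⟩ := hch x.1 x.2
    obtain ⟨f, hf, hxf⟩ := hW.exists_basicOpen_le ⟨x.1, hxV⟩ (hO x.2)
    exact ⟨f, hxf, hf.trans hVO, _, c.restrict (hW.basicOpen f) hf⟩
  choose f hxf hfO hfS using h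
  obtain ⟨T, hT⟩ := hc.elim_finite_subcover (fun x : O => (X.basicOpen (f x) : Set X))
    (fun x => (X.basicOpen (f x)).2) (fun x hx => Set.mem_iUnion.2 ⟨⟨x, hx⟩, hxf _⟩)
  classical
  refine ⟨T.image f, ?_, fun x hx => ?_⟩
  · intro g hg
    obtain ⟨y, -, rfl⟩ := Finset.mem_image.1 hg
    exact ⟨hfO y, hfS y⟩
  · obtain ⟨y, hy, hxy⟩ := Set.mem_iUnion₂.1 (hT hx)
    exact ⟨f y, Finset.mem_image_of_mem f hy, hxy⟩

/-- A local section of the span on a basic open extends, up to a power, to a section lying in the span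
on a given quasi-compact open with charts. -/
theorem exists_lift (hF : Coh.IsQCoh F) {Γs : Gens F} {W O : X.Opens} (hW : IsAffineOpen W) (hO : O ≤ W)
    (hc : IsCompact (O : Set X)) (hch : HasCharts Γs O) (t : Γ(X, W))
    (y : Γ(F, X.basicOpen t)) (hy : LocSpan Γs (X.basicOpen t) y) :
    ∃ (N : ℕ) (s : Γ(F, W)),
      res F (X.basicOpen_le t) s = rres (X.basicOpen_le t) (t ^ N) • y ∧ LocSpan Γs O (res F hO s) := by
  classical
  haveI : F.IsQuasicoherent := hF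
  obtain ⟨T, hT, hcov⟩ := exists_finite_charts hW hO hc hch
  obtain ⟨n, s, hs⟩ := H10Coh.exists_pow_smul_eq_res F hW t y
  have hs' : res F (X.basicOpen_le t) s = rres (X.basicOpen_le t) (t ^ n) • y := hs
  have hk : ∀ f : T, ∃ k : ℕ,
      LocSpan Γs (X.basicOpen f.1) (rres (X.basicOpen_le f.1) (t ^ k) • res F (X.basicOpen_le f.1) s) := by
    intro f
    obtain ⟨hfO, S, c⟩ := hT f.1 f.2
    let t' := rres (X.basicOpen_le f.1) t
    have hbt : X.basicOpen t' ≤ X.basicOpen t := by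
      show X.basicOpen (X.presheaf.map _ t) ≤ _
      rw [Scheme.basicOpen_res]; exact inf_le_right
    have h1 : LocSpan Γs (X.basicOpen t') (res F (X.basicOpen_le t') (res F (X.basicOpen_le f.1) s)) := by
      have := locSpan_res hbt (hy.smul (rres (X.basicOpen_le t) (t ^ n)))
      rw [← hs', res_res] at this
      rwa [res_res]
    obtain ⟨k, hk⟩ := exists_pow_mem_span hF c.affine t' S (res F (X.basicOpen_le f.1) s)
      ((c.span_of_le hF (c.affine.basicOpen t') (X.basicOpen_le t')).1 h1)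
    refine ⟨k, ?_⟩
    rw [map_pow]
    exact (c.span hF).2 hk
  choose k hk using hk
  let K := T.attach.sup k
  refine ⟨K + n, t ^ K • s, ?_, locSpan_local fun x hx => ?_⟩
  · rw [res_smul, hs', smul_smul, ← map_mul, ← pow_add]
  · obtain ⟨f, hf, hxf⟩ := hcov x hx
    refine ⟨X.basicOpen f, (hT f hf).1, hxf, ?_⟩
    have hle : k ⟨f, hf⟩ ≤ K := Finset.le_sup (f := k) (Finset.mem_attach T ⟨f, hf⟩)
    rw [res_res, res_smul, ← Nat.sub_add_cancel hle, pow_add, map_mul, mul_smul]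
    exact (hk ⟨f, hf⟩).smul _

/-- The extension step: a finite set of sections over an affine open realising the span on a quasi-compact
open part of it. -/
theorem exists_step (hF : Coh.IsQCoh F) {Γs : Gens F} {W O : X.Opens} (hW : IsAffineOpen W) (hO : O ≤ W)
    (hc : IsCompact (O : Set X)) (hch : HasCharts Γs O) (hgens : ∀ g ∈ Γs, g.1 ⊓ W ≤ O) :
    ∃ S : Set Γ(F, W), S.Finite ∧ (∀ s ∈ S, LocSpan Γs O (res F hO s)) ∧ LeOn W Γs (ofSet W S) := by
  classical
  obtain ⟨T, hT, hcov⟩ := exists_finite_charts hW hO hc hch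
  choose S hS using fun f : T => (hT f.1 f.2).2
  have hl := fun (p : Σ f : T, S f) => exists_lift hF hW hO hc hch p.1.1 p.2.1 ((hS p.1).mem _ p.2.2)
  choose N s hs hsO using hl
  haveI : ∀ f, Finite (S f) := fun f => (hS f).finite.to_subtype
  refine ⟨Set.range s, Set.finite_range s, ?_, fun g hg => locSpan_local fun x hx => ?_⟩
  · rintro _ ⟨p, rfl⟩
    exact hsO p
  obtain ⟨f, hf, hxf⟩ := hcov x (hgens g hg hx)
  refine ⟨X.basicOpen f ⊓ g.1, le_inf inf_le_right (inf_le_left.trans (X.basicOpen_le f)), ⟨hxf, hx.1⟩, ?_⟩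
  rw [res_res]
  have h1 : LeOn (X.basicOpen f) (ofSet (X.basicOpen f) (S ⟨f, hf⟩)) (ofSet W (Set.range s)) := by
    rintro _ ⟨y, hy, rfl⟩
    refine locSpan_of_span ?_
    have hu := isUnit_rres_pow f (N ⟨⟨f, hf⟩, ⟨y, hy⟩⟩) (inf_le_right : X.basicOpen f ⊓ X.basicOpen f ≤ _)
      (inf_le_right.trans (X.basicOpen_le f))
    rw [← Submodule.smul_mem_iff_of_isUnit _ hu]
    refine Submodule.subset_span ⟨⟨W, s ⟨⟨f, hf⟩, ⟨y, hy⟩⟩⟩, ⟨_, ⟨_, rfl⟩, rfl⟩,
      inf_le_left.trans (X.basicOpen_le f), ?_⟩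
    have := congrArg (res F (inf_le_left : X.basicOpen f ⊓ X.basicOpen f ≤ X.basicOpen f))
      (hs ⟨⟨f, hf⟩, ⟨y, hy⟩⟩)
    rw [res_res, res_smul, rres_rres] at this
    exact this.symm
  refine h1.locSpan inf_le_left ((hS ⟨f, hf⟩).le.locSpan inf_le_left ?_)
  exact locSpan_res inf_le_right (locSpan_gen g hg)

end Groth.Agent.LeadQSub
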